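import Groth.Prelude.Def_SGA7a
import Groth.Agent.PowEtale.Local
import Mathlib.AlgebraicGeometry.ValuativeCriterion

/-!
# Inertia fixes prime-to-residue-characteristic torsion of proper smooth group schemes
-/

set_option autoImplicit false
set_option backward.isDefEq.respectTransparency false
set_option backward.isDefEq.respectTransparency.types false
set_option linter.style.haveILetI false
universe u

open CategoryTheory CategoryTheory.Limits MonoidalCategory CartesianMonoidalCategory MonObj AlgebraicGeometry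
open scoped CategoryTheory.Obj

namespace Groth.Agent.TorsInertia

/-- Two morphisms from an integral affine scheme to a separated scheme over an affine base agree once they
agree at the generic point. -/
theorem ext_spec {S X : Scheme.{u}} (f : X ⟶ S) [IsSeparated f] {W L : Type u} [CommRing W] [IsDomain W] [Field L]
    [Algebra W L] [FaithfulSMul W L] (a b : Spec (CommRingCat.of W) ⟶ X) (hf : a ≫ f = b ≫ f)
    (h : Spec.map (CommRingCat.ofHom (algebraMap W L)) ≫ a = Spec.map (CommRingCat.ofHom (algebraMap W L)) ≫ b) :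
    a = b := by
  haveI : IsDominant (Spec.map (CommRingCat.ofHom (algebraMap W L))) := ⟨by
    change DenseRange (PrimeSpectrum.comap (algebraMap W L))
    rw [PrimeSpectrum.denseRange_comap_iff_ker_le_nilRadical,
      (RingHom.injective_iff_ker_eq_bot _).mp (FaithfulSMul.algebraMap_injective W L)]
    exact bot_le⟩
  exact ext_of_isDominant_of_isSeparated f hf _ h

/-- Inertia fixes a point of order dividing `n` of the generic fibre of a separated smooth commutative group
scheme (`n` a unit of the base) which extends over the valuation ring. -/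
theorem fixed_of_extends {R K Ω : Type u} [CommRing R] [IsLocalRing R] [Field K] [Algebra R K] [Field Ω]
    [Algebra K Ω] {W : ValuationSubring Ω}
    (B : Over (Spec (CommRingCat.of R))) [GrpObj B] [IsCommMonObj B] [IsSeparated B.hom] [Smooth B.hom]
    {n : ℕ} (hn : IsUnit (n : R)) {σ : Ω ≃ₐ[K] Ω} (hσ : SGA7.IsInertia W σ)
    (j : R →+* W) (hj : ∀ r, (j r : Ω) = algebraMap K Ω (algebraMap R K r))
    (y : SGA7.Pts Ω ((Over.pullback (Spec.map (CommRingCat.ofHom (algebraMap R K)))).obj B)) (hy : y ^ n = 1)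
    (at' : Spec (CommRingCat.of W) ⟶ B.left)
    (hat₁ : Spec.map (CommRingCat.ofHom (algebraMap W Ω)) ≫ at' =
      y.left ≫ pullback.fst B.hom (Spec.map (CommRingCat.ofHom (algebraMap R K))))
    (hat₂ : at' ≫ B.hom = Spec.map (CommRingCat.ofHom j)) :
    SGA7.galAct σ y = y := by
  let q := Spec.map (CommRingCat.ofHom (algebraMap R K))
  let F := Over.pullback q
  let p : (F.obj B).left ⟶ B.left := pullback.fst B.hom q
  let a : Spec (CommRingCat.of Ω) ⟶ B.left := y.left ≫ p
  let sΩ : Spec (CommRingCat.of Ω) ⟶ Spec (CommRingCat.of Ω) := Spec.map (CommRingCat.ofHom (σ : Ω →+* Ω))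
  haveI : Etale ((𝟙 B : B ⟶ B) ^ n).left := PowEtale.etale_pow B hn
  let m := ((𝟙 B : B ⟶ B) ^ n).left
  have hFm : F.map ((𝟙 B : B ⟶ B) ^ n) = (𝟙 (F.obj B)) ^ n := by
    refine (map_pow F.homMonoidHom (𝟙 B) n).trans ?_
    exact congrArg (fun f => f ^ n) (F.map_id B)
  have hm : ∀ z : SGA7.Pts Ω (F.obj B), (z.left ≫ p) ≫ m = (z ^ n).left ≫ p := fun z => by
    have e : z ^ n = z ≫ F.map ((𝟙 B : B ⟶ B) ^ n) := by rw [hFm, MonObj.comp_pow, Category.comp_id]
    rw [e, Over.comp_left, Category.assoc, Category.assoc]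
    refine congrArg (fun k => z.left ≫ k) ?_
    exact (pullback.lift_fst _ _ _).symm
  have hgy : (SGA7.galAct σ y).left = sΩ ≫ y.left := rfl
  have ham : (sΩ ≫ a) ≫ m = a ≫ m := by
    have h1 := hm (SGA7.galAct σ y)
    rw [show SGA7.galAct σ y ^ n = y ^ n by
      rw [SGA7.galAct, ← MonObj.comp_pow, hy, MonObj.comp_one], ← hm y, hgy, Category.assoc] at h1
    exact h1
  let iW : Spec (CommRingCat.of Ω) ⟶ Spec (CommRingCat.of W) := Spec.map (CommRingCat.ofHom (algebraMap W Ω))
  change iW ≫ at' = a at hat₁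
  let σW : W →+* W := ((σ : Ω →+* Ω).comp W.subtype).codRestrict W.toSubring (fun x => (hσ x x.2).1)
  let sW : Spec (CommRingCat.of W) ⟶ Spec (CommRingCat.of W) := Spec.map (CommRingCat.ofHom σW)
  have hcomm : iW ≫ sW = sΩ ≫ iW := by
    rw [← Spec.map_comp, ← Spec.map_comp]
    rfl
  have hσj : σW.comp j = j := RingHom.ext fun r => Subtype.ext (by
    change σ (j r : Ω) = (j r : Ω)
    rw [hj]
    exact σ.commutes (algebraMap R K r))
  have hbB : (sW ≫ at') ≫ B.hom = at' ≫ B.hom := by
    rw [Category.assoc, hat₂, ← Spec.map_comp, ← CommRingCat.ofHom_comp, hσj]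
  have hm' : (sW ≫ at') ≫ m = at' ≫ m := by
    have hmB : m ≫ B.hom = B.hom := Over.w _
    refine ext_spec (L := Ω) B.hom _ _ ?_ ?_
    · simp only [Category.assoc, hmB]; exact (Category.assoc _ _ _).symm.trans hbB
    · change iW ≫ _ = iW ≫ _
      rw [← Category.assoc, ← Category.assoc iW sW, hcomm, Category.assoc, Category.assoc,
        reassoc_of% hat₁, ← Category.assoc, ham]
  have hres : (IsLocalRing.residue W).comp σW = IsLocalRing.residue W := RingHom.ext fun w => by
    refine Ideal.Quotient.eq.mpr ?_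
    exact (W.valuation_lt_one_iff _).mpr (hσ w w.2).2
  let k := Spec.map (CommRingCat.ofHom (IsLocalRing.residue W))
  have heq : sW ≫ at' = at' := by
    refine PowEtale.eq_of_comp_eq _ _ m hm' k (IsLocalRing.closedPoint _) ?_ ?_
    · exact IsLocalRing.comap_closedPoint (IsLocalRing.residue W)
    · rw [← Category.assoc, ← Spec.map_comp, ← CommRingCat.ofHom_comp, hres]
  apply Over.OverMorphism.ext
  refine pullback.hom_ext ?_ ?_
  · rw [hgy, Category.assoc]
    change sΩ ≫ a = a
    rw [← hat₁, ← Category.assoc, ← hcomm, Category.assoc, heq]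
  · exact (Over.w (SGA7.galAct σ y)).trans (Over.w y).symm


/-- Inertia fixes the points of order dividing `n` of the generic fibre of a proper smooth commutative group
scheme, `n` a unit of the base. -/
theorem fixed {R K Ω : Type u} [CommRing R] [IsLocalRing R] [Field K] [Algebra R K] [Field Ω] [Algebra K Ω]
    {W : ValuationSubring Ω} (hW : SGA7.LiesOver K R W)
    (B : Over (Spec (CommRingCat.of R))) [GrpObj B] [IsCommMonObj B] [IsProper B.hom] [Smooth B.hom]
    {n : ℕ} (hn : IsUnit (n : R)) {σ : Ω ≃ₐ[K] Ω} (hσ : SGA7.IsInertia W σ)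
    (y : SGA7.Pts Ω ((Over.pullback (Spec.map (CommRingCat.ofHom (algebraMap R K)))).obj B)) (hy : y ^ n = 1) :
    SGA7.galAct σ y = y := by
  let q := Spec.map (CommRingCat.ofHom (algebraMap R K))
  let a : Spec (CommRingCat.of Ω) ⟶ B.left := y.left ≫ pullback.fst B.hom q
  let j : R →+* W := ((algebraMap K Ω).comp (algebraMap R K)).codRestrict W.toSubring hW.1
  let iW : Spec (CommRingCat.of Ω) ⟶ Spec (CommRingCat.of W) := Spec.map (CommRingCat.ofHom (algebraMap W Ω))
  have ha : a ≫ B.hom = iW ≫ Spec.map (CommRingCat.ofHom j) := by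
    have h1 : a ≫ B.hom = Spec.map (CommRingCat.ofHom (algebraMap K Ω)) ≫ q := by
      simp only [a, Category.assoc, pullback.condition]
      rw [← Category.assoc]
      exact congrArg (· ≫ q) (Over.w y)
    rw [h1, ← Spec.map_comp, ← Spec.map_comp]
    rfl
  obtain ⟨⟨hex, -⟩, -⟩ : (@ValuativeCriterion _ _ B.hom ∧ QuasiCompact B.hom) ∧ True := by
    have h := (IsProper.eq_valuativeCriterion.le _ _ B.hom ‹IsProper B.hom›)
    exact ⟨⟨h.1.1.1, h.1.1.2⟩, trivial⟩
  obtain ⟨⟨at', hat₁, hat₂⟩⟩ := (hex.existence { R := W, K := Ω, i₁ := a, i₂ := Spec.map (CommRingCat.ofHom j), commSq := ⟨ha⟩ }).exists_lift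
  exact fixed_of_extends B hn hσ j (fun _ => rfl) y hy at' hat₁ hat₂

end Groth.Agent.TorsInertia
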