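import Groth.Prelude.Def_SGA7a
import Groth.Agent.S0499
import Mathlib

/-!
# Valuation rings over a henselian discrete valuation ring, and lifting inertia
-/

set_option autoImplicit false
set_option backward.isDefEq.respectTransparency false
set_option backward.isDefEq.respectTransparency.types false
set_option linter.style.haveILetI false
universe u

open IsLocalRing

namespace Groth.Agent.TorsInertia

/-- A domain finite over a henselian local ring is local. -/
theorem isLocalRing_of_finite_domain (R : Type u) [CommRing R] [HenselianLocalRing R] (S : Type u) [CommRing S]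
    [IsDomain S] [Algebra R S] [Module.Finite R S] : IsLocalRing S := by
  classical
  obtain ⟨ι, _, A, _, hA, ⟨e⟩⟩ := Groth.Agent.S0499.result R S
  haveI := hA
  haveI : IsDomain (∀ i, A i) := e.symm.toMulEquiv.isDomain
  haveI : Nonempty ι := by
    by_contra h
    rw [not_nonempty_iff] at h
    exact not_subsingleton (∀ i, A i) inferInstance
  haveI : Subsingleton ι := ⟨fun i j => by
    by_contra h
    have h0 : (Pi.single i 1 : ∀ i, A i) * Pi.single j 1 = 0 := by
      funext k
      by_cases hk : k = i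
      · subst hk
        simp [Pi.single_eq_of_ne h]
      · simp [Pi.single_eq_of_ne hk]
    rcases mul_eq_zero.mp h0 with h' | h'
    · exact one_ne_zero ((Pi.single_eq_same i (1 : A i)).symm.trans (congrFun h' i))
    · exact one_ne_zero ((Pi.single_eq_same j (1 : A j)).symm.trans (congrFun h' j))⟩
  letI : Unique ι := uniqueOfSubsingleton (Classical.arbitrary ι)
  exact ((RingEquiv.piUnique A).symm.trans e.symm).isLocalRing

variable {R K Ω : Type u} [CommRing R] [IsDomain R] [IsDiscreteValuationRing R] [HenselianLocalRing R]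
  [Field K] [Algebra R K] [IsFractionRing R K] [Field Ω] [Algebra K Ω] [Algebra.IsSeparable K Ω]
  [Algebra R Ω] [IsScalarTower R K Ω]

/-- A valuation ring of a separable algebraic extension lying over a henselian discrete valuation ring
consists of the integral elements. -/
theorem mem_iff_isIntegral {V : ValuationSubring Ω} (hV : SGA7.LiesOver K R V) (x : Ω) :
    x ∈ V ↔ IsIntegral R x := by
  let toV : R →+* V := (algebraMap R Ω).codRestrict V.toSubring fun r => by
    rw [IsScalarTower.algebraMap_apply R K Ω]; exact hV.1 r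
  letI : Algebra R V := toV.toAlgebra
  haveI : IsScalarTower R V Ω := IsScalarTower.of_algebraMap_eq fun _ => rfl
  have hint : ∀ y : Ω, IsIntegral R y → y ∈ V := fun y hy => by
    obtain ⟨z, hz⟩ := IsIntegrallyClosed.isIntegral_iff.1 (hy.tower_top (A := V))
    exact hz ▸ z.2
  refine ⟨fun hx => ?_, hint x⟩
  by_cases hx0 : x = 0
  · rw [hx0]; exact isIntegral_zero
  haveI : Algebra.IsAlgebraic K Ω := inferInstance
  let L : IntermediateField K Ω := IntermediateField.adjoin K {x}
  haveI : FiniteDimensional K L := IntermediateField.adjoin.finiteDimensional (Algebra.IsIntegral.isIntegral x)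
  haveI : Algebra.IsSeparable K L := Algebra.isSeparable_tower_bot_of_isSeparable K L Ω
  haveI : IsScalarTower R L Ω := IsScalarTower.of_algebraMap_eq fun r => rfl
  let B := integralClosure R L
  haveI : Module.Finite R B := IsIntegralClosure.finite R K L B
  haveI : IsDedekindDomain B := IsIntegralClosure.isDedekindDomain R K L B
  haveI : IsFractionRing B L := IsIntegralClosure.isFractionRing_of_finite_extension R K L B
  haveI : IsLocalRing B := isLocalRing_of_finite_domain R B
  haveI : ValuationRing B := ((tfae_of_isNoetherianRing_of_isLocalRing_of_isDomain B).out 2 1 :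
    IsDedekindDomain B ↔ ValuationRing B).mp inferInstance
  let x' : L := ⟨x, IntermediateField.mem_adjoin_simple_self K x⟩
  have hBint : ∀ b : B, IsIntegral R (((b : L) : Ω)) := fun b =>
    (show IsIntegral R (b : L) from b.2).algebraMap
  rcases ValuationRing.isInteger_or_isInteger B x' with ⟨b, hb⟩ | ⟨b, hb⟩
  · have := hBint b
    rwa [show (b : L) = x' from hb] at this
  · by_cases hu : IsUnit b
    · obtain ⟨u, rfl⟩ := hu
      have h1 := hBint (↑u⁻¹ : B)
      have h2 : (((↑u⁻¹ : B) : L)) = x' := by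
        have h3 : ((u : B) : L) * ((↑u⁻¹ : B) : L) = 1 := by
          rw [← Subalgebra.coe_mul, Units.mul_inv, Subalgebra.coe_one]
        rw [show ((u : B) : L) = x'⁻¹ from hb] at h3
        exact (inv_eq_of_mul_eq_one_right h3).symm.trans (inv_inv x')
      rwa [h2] at h1
    exfalso
    obtain ⟨ϖ, hϖ⟩ := IsDiscreteValuationRing.exists_irreducible R
    have hrad : b ∈ (Ideal.span {algebraMap R B ϖ}).radical := by
      rw [Ideal.radical_eq_sInf]
      refine Submodule.mem_sInf.mpr fun p ⟨hp, hpp⟩ => ?_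
      have hne : p ≠ ⊥ := fun h => by
        rw [h, Ideal.span_singleton_le_iff_mem, Ideal.mem_bot] at hp
        have h1 : algebraMap K L (algebraMap R K ϖ) = 0 := by
          rw [← IsScalarTower.algebraMap_apply R K L, IsScalarTower.algebraMap_apply R B L, hp, map_zero]
        exact hϖ.ne_zero (IsFractionRing.injective R K (((map_eq_zero _).mp h1).trans (map_zero _).symm))
      rw [IsLocalRing.eq_maximalIdeal (hpp.isMaximal hne)]
      exact hu
    obtain ⟨N, hN⟩ := hrad
    obtain ⟨c, hc⟩ := Ideal.mem_span_singleton'.mp hN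
    have hΩ : (x⁻¹) ^ N = ((c : L) : Ω) * algebraMap R Ω ϖ := by
      have h1 := congrArg (fun z : B => ((z : L) : Ω)) hc
      simp only [MulMemClass.coe_mul, SubmonoidClass.coe_pow] at h1
      rw [show (b : L) = x'⁻¹ from hb] at h1
      exact h1.symm
    have h2 : ((c : L) : Ω) * x ^ N * algebraMap R Ω ϖ = 1 := by
      rw [mul_right_comm, ← hΩ, ← mul_pow, inv_mul_cancel₀ hx0, one_pow]
    have hlt : V.valuation (algebraMap R Ω ϖ) < 1 := by
      rw [IsScalarTower.algebraMap_apply R K Ω]
      exact hV.2 ϖ hϖ.not_isUnit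
    have hle : V.valuation (((c : L) : Ω) * x ^ N) ≤ 1 :=
      (V.valuation_le_one_iff _).mpr (mul_mem (hint _ (hBint c)) (pow_mem hx N))
    have h3 := congrArg V.valuation h2
    rw [map_mul, map_one] at h3
    exact ((mul_le_of_le_one_left' hle).trans_lt hlt).ne h3

/-- There is only one valuation ring lying over a henselian discrete valuation ring. -/
theorem eq_of_liesOver {V W : ValuationSubring Ω} (hV : SGA7.LiesOver K R V) (hW : SGA7.LiesOver K R W) :
    V = W :=
  SetLike.ext fun x => (mem_iff_isIntegral hV x).trans (mem_iff_isIntegral hW x).symm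

/-- An automorphism of a finite Galois subextension acting trivially on residues extends to inertia. -/
theorem exists_inertia_lift [IsGalois K Ω] {W : ValuationSubring Ω} (hW : SGA7.LiesOver K R W)
    (L : IntermediateField K Ω) [Normal K L] (τ : L ≃ₐ[K] L)
    (hτ : ∀ y : L, (y : Ω) ∈ W → W.valuation ((τ y : Ω) - y) < 1) :
    ∃ σ : Ω ≃ₐ[K] Ω, SGA7.IsInertia W σ ∧ ∀ y : L, σ y = τ y := by
  have hσW : ∀ (σ : Ω ≃ₐ[K] Ω) (x : Ω), x ∈ W → σ x ∈ W := fun σ x hx => by
    rw [mem_iff_isIntegral hW] at hx ⊢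
    exact hx.map (σ.toAlgHom.restrictScalars R)
  let G := Ω ≃ₐ[L] Ω
  letI : MulSemiringAction G W :=
  { smul := fun σ w => ⟨σ (w : Ω), hσW (σ.restrictScalars K) w w.2⟩
    one_smul := fun w => Subtype.ext rfl
    mul_smul := fun σ σ' w => Subtype.ext rfl
    smul_zero := fun σ => Subtype.ext (map_zero σ)
    smul_add := fun σ a b => Subtype.ext (map_add σ (a : Ω) b)
    smul_one := fun σ => Subtype.ext (map_one σ)
    smul_mul := fun σ a b => Subtype.ext (map_mul σ (a : Ω) b) }
  letI : TopologicalSpace W := ⊥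
  haveI : DiscreteTopology W := ⟨rfl⟩
  haveI : ContinuousSMul G W := continuousSMul_iff_stabilizer_isOpen.mpr fun w => by
    haveI : Algebra.IsIntegral L Ω := Algebra.IsIntegral.tower_top (R := K)
    have h : (MulAction.stabilizer G w : Set G) = (MulAction.stabilizer G (w : Ω) : Set G) := by
      ext σ
      exact ⟨fun h => congrArg Subtype.val h, fun h => Subtype.ext h⟩
    rw [h]
    exact stabilizer_isOpen_of_isIntegral (w : Ω)
  let A : ValuationSubring L := W.comap (algebraMap L Ω)
  letI : Algebra A W := RingHom.toAlgebra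
    (((algebraMap L Ω).comp A.subtype).codRestrict W.toSubring fun a => a.2)
  haveI : SMulCommClass G A W := ⟨fun σ a w => Subtype.ext (by
    change σ ((algebraMap L Ω a.1) * (w : Ω)) = algebraMap L Ω a.1 * σ (w : Ω)
    rw [map_mul, σ.commutes])⟩
  haveI : IsGalois L Ω := IsGalois.tower_top_intermediateField L
  haveI : Algebra.IsInvariant A W G := ⟨fun w hw => by
    obtain ⟨y, hy⟩ := (InfiniteGalois.mem_range_algebraMap_iff_fixed (k := L) (w : Ω)).mpr
      fun σ => congrArg Subtype.val (hw σ)
    exact ⟨⟨y, show algebraMap L Ω y ∈ W by rw [hy]; exact w.2⟩, Subtype.ext hy⟩⟩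
  haveI : (maximalIdeal W).LiesOver (maximalIdeal A) := ⟨by
    ext a
    refine ⟨fun ha hu => ha ?_, fun ha hu => ha (hu.map _)⟩
    obtain ⟨⟨v, hv⟩, hav⟩ := isUnit_iff_exists_inv.mp hu
    have h1 : algebraMap L Ω a.1 * v = 1 := congrArg Subtype.val hav
    have hne : a.1 ≠ 0 := fun h => by simp [h] at h1
    have hmem : algebraMap L Ω a.1⁻¹ ∈ W := by
      rw [map_inv₀, ← eq_inv_of_mul_eq_one_right h1]
      exact hv
    exact isUnit_iff_exists_inv.mpr ⟨⟨a.1⁻¹, hmem⟩, Subtype.ext (mul_inv_cancel₀ hne)⟩⟩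
  let σ₀ : Ω ≃ₐ[K] Ω := τ.liftNormal Ω
  have hσ₀ : ∀ y : L, σ₀ (y : Ω) = (τ y : Ω) := fun y => τ.liftNormal_commutes Ω y
  let e : W ≃+* W :=
  { toFun := fun w => ⟨σ₀ w, hσW σ₀ w w.2⟩
    invFun := fun w => ⟨σ₀.symm w, hσW σ₀.symm w w.2⟩
    left_inv := fun w => Subtype.ext (σ₀.symm_apply_apply _)
    right_inv := fun w => Subtype.ext (σ₀.apply_symm_apply _)
    map_mul' := fun a b => Subtype.ext (map_mul σ₀ (a : Ω) b)
    map_add' := fun a b => Subtype.ext (map_add σ₀ (a : Ω) b) }
  let eb : (W ⧸ maximalIdeal W) ≃ₐ[A ⧸ maximalIdeal A] (W ⧸ maximalIdeal W) :=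
    AlgEquiv.ofRingEquiv (f := Ideal.quotientEquiv _ _ e (IsLocalRing.map_ringEquiv_maximalIdeal e).symm)
      (Quotient.ind fun a => by
        change Ideal.Quotient.mk (maximalIdeal W) (e (algebraMap A W a)) = Ideal.Quotient.mk _ (algebraMap A W a)
        refine Ideal.Quotient.eq.mpr ((W.valuation_lt_one_iff _).mpr ?_)
        change W.valuation (σ₀ ((a.1 : L) : Ω) - ((a.1 : L) : Ω)) < 1
        rw [hσ₀]
        exact hτ a.1 a.2)
  obtain ⟨⟨h, hh⟩, hheq⟩ := Ideal.Quotient.stabilizerHom_surjective_of_profinite (G := G)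
    (maximalIdeal A) (maximalIdeal W) eb
  refine ⟨((h.restrictScalars K).symm : Ω ≃ₐ[K] Ω) * σ₀, fun x hx => ⟨hσW _ _ hx, ?_⟩, fun y => ?_⟩
  · have h1 : Ideal.Quotient.mk (maximalIdeal W) (h • ⟨x, hx⟩) = Ideal.Quotient.mk _ (e ⟨x, hx⟩) :=
      DFunLike.congr_fun hheq (Ideal.Quotient.mk _ ⟨x, hx⟩)
    have h2 := (W.valuation_lt_one_iff _).mp (Ideal.Quotient.eq.mp h1)
    let w : W := ⟨(h.restrictScalars K).symm (σ₀ x) - x, sub_mem (hσW _ _ (hσW σ₀ x hx)) hx⟩
    change W.valuation (w : Ω) < 1
    rw [← W.valuation_lt_one_iff]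
    intro hu
    have hu' : IsUnit (h • w) := hu.map (MulSemiringAction.toRingHom G W h)
    have e1 : h • w = e ⟨x, hx⟩ - h • (⟨x, hx⟩ : W) := Subtype.ext (by
      change h ((h.restrictScalars K).symm (σ₀ x) - x) = σ₀ x - h x
      rw [map_sub]
      congr 1
      exact (h.restrictScalars K).apply_symm_apply _)
    rw [e1] at hu'
    exact (Ideal.Quotient.eq.mp h1.symm) hu'
  · change (h.restrictScalars K).symm (σ₀ y) = _
    rw [hσ₀, AlgEquiv.symm_apply_eq]
    exact (h.commutes (τ y)).symm

end Groth.Agent.TorsInertia
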