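import Groth.Agent.TorsInertia.Core
import Groth.Agent.TorsInertia.Henselian
import Groth.Agent.InertiaEtale.InertiaField
import Mathlib.AlgebraicGeometry.Morphisms.Etale

/-!
# Specialisation of points and inertia, over a henselian discrete valuation ring
-/

set_option autoImplicit false
set_option backward.isDefEq.respectTransparency false
set_option backward.isDefEq.respectTransparency.types false
set_option linter.style.haveILetI false
universe u

open CategoryTheory CategoryTheory.Limits AlgebraicGeometry IsLocalRing

namespace Groth.Agent.TorsInertia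

variable {R K Ω : Type u} [CommRing R] [IsDomain R] [IsDiscreteValuationRing R] [HenselianLocalRing R]
  [Field K] [Algebra R K] [IsFractionRing R K] [Field Ω] [Algebra K Ω]
  [Algebra R Ω] [IsScalarTower R K Ω]

/-- A point of the generic fibre which specialises into the special fibre extends over the valuation ring. -/
theorem exists_extension [Algebra.IsSeparable K Ω] {W : ValuationSubring Ω} (hW : SGA7.LiesOver K R W)
    {X : Scheme.{u}} (f : X ⟶ Spec (CommRingCat.of R)) (a : Spec (CommRingCat.of Ω) ⟶ X)
    (ha : a ≫ f = Spec.map (CommRingCat.ofHom (algebraMap R Ω))) (z : X) (hz : f z = closedPoint R)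
    (hspec : a (closedPoint Ω) ⤳ z) :
    ∃ (j : R →+* W) (at' : Spec (CommRingCat.of W) ⟶ X), (∀ r, (j r : Ω) = algebraMap K Ω (algebraMap R K r)) ∧
      Spec.map (CommRingCat.ofHom (algebraMap W Ω)) ≫ at' = a ∧ at' ≫ f = Spec.map (CommRingCat.ofHom j) := by
  let φ : X.presheaf.stalk z ⟶ CommRingCat.of Ω :=
    X.presheaf.stalkSpecializes hspec ≫ Scheme.stalkClosedPointTo a
  have hφ : Spec.map φ ≫ X.fromSpecStalk z = a := by
    rw [Spec.map_comp, Category.assoc, Scheme.SpecMap_stalkSpecializes_fromSpecStalk,
      Scheme.Spec_stalkClosedPointTo_fromSpecStalk]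
  obtain ⟨V, hV, hloc⟩ := IsLocalRing.exists_factor_valuationRing φ.hom
  let φV : X.presheaf.stalk z ⟶ CommRingCat.of V := CommRingCat.ofHom (φ.hom.codRestrict V.toSubring hV)
  haveI : IsLocalHom φV.hom := hloc
  let bt : Spec (CommRingCat.of V) ⟶ X := Spec.map φV ≫ X.fromSpecStalk z
  have hb : Spec.map (CommRingCat.ofHom (algebraMap V Ω)) ≫ bt = a := by
    rw [← Category.assoc, ← Spec.map_comp]
    exact hφ
  let j' : CommRingCat.of R ⟶ CommRingCat.of V := Spec.preimage (bt ≫ f)
  have hj' : Spec.map j' = bt ≫ f := Spec.map_preimage _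
  have hjr : ∀ r, (j'.hom r : Ω) = algebraMap R Ω r := fun r => by
    have h : Spec.map (j' ≫ CommRingCat.ofHom (algebraMap V Ω)) = Spec.map (CommRingCat.ofHom (algebraMap R Ω)) := by
      rw [Spec.map_comp, hj', ← Category.assoc, hb, ha]
    exact congrArg (fun g : CommRingCat.of R ⟶ CommRingCat.of Ω => g.hom r) (Spec.map_injective h)
  have hV' : SGA7.LiesOver K R V := by
    refine ⟨fun r => ?_, fun r hr => ?_⟩
    · rw [← IsScalarTower.algebraMap_apply R K Ω, ← hjr]
      exact (j'.hom r).2
    · rw [← IsScalarTower.algebraMap_apply R K Ω, ← hjr, ← V.valuation_lt_one_iff]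
      have hc : Spec.map j' (closedPoint V) = closedPoint R := by
        rw [hj', Scheme.Hom.comp_apply]
        change f (X.fromSpecStalk z (Spec.map φV (closedPoint V))) = _
        rw [show Spec.map φV (closedPoint V) = closedPoint (X.presheaf.stalk z) from
          IsLocalRing.comap_closedPoint φV.hom, Scheme.fromSpecStalk_closedPoint, hz]
      have hc' : Ideal.comap j'.hom (maximalIdeal V) = maximalIdeal R := congrArg PrimeSpectrum.asIdeal hc
      rw [← hc'] at hr
      exact hr
  obtain rfl : V = W := eq_of_liesOver hV' hW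
  exact ⟨j'.hom, bt, fun r => by rw [hjr, IsScalarTower.algebraMap_apply R K Ω], hb, hj'.symm⟩

set_option synthInstance.maxHeartbeats 400000 in
set_option maxHeartbeats 2000000 in
/-- A point fixed by inertia of a scheme with the Néron mapping property specialises into the special fibre. -/
theorem exists_specialization [IsSepClosure K Ω] {W : ValuationSubring Ω} (hW : SGA7.LiesOver K R W)
    (N : Over (Spec (CommRingCat.of R))) [LocallyOfFiniteType N.hom]
    (hN : ∀ Y : Over (Spec (CommRingCat.of R)), Smooth Y.hom → Function.Surjective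
      (fun g : Y ⟶ N => (Over.pullback (Spec.map (CommRingCat.ofHom (algebraMap R K)))).map g))
    (a : Spec (CommRingCat.of Ω) ⟶ N.left)
    (ha : a ≫ N.hom = Spec.map (CommRingCat.ofHom (algebraMap R Ω)))
    (hfix : ∀ σ : Ω ≃ₐ[K] Ω, SGA7.IsInertia W σ → Spec.map (CommRingCat.ofHom (σ : Ω →+* Ω)) ≫ a = a) :
    ∃ z, N.hom z = closedPoint R ∧ a (closedPoint Ω) ⤳ z := by
  classical
  haveI : IsGalois K Ω := IsSepClosure.isGalois
  -- an affine chart
  obtain ⟨U, hU, hpU, -⟩ := exists_isAffineOpen_mem_and_subset
    (show a (closedPoint Ω) ∈ (⊤ : N.left.Opens) from trivial)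
  have hrng : Set.range a ⊆ Set.range hU.fromSpec := by
    rintro - ⟨q, rfl⟩
    rw [hU.range_fromSpec, Subsingleton.elim (α := PrimeSpectrum Ω) q (closedPoint Ω)]
    exact hpU
  let g : Γ(N.left, U) ⟶ CommRingCat.of Ω := Spec.preimage (IsOpenImmersion.lift hU.fromSpec a hrng)
  have hg : Spec.map g ≫ hU.fromSpec = a := by rw [Spec.map_preimage, IsOpenImmersion.lift_fac]
  let s : CommRingCat.of R ⟶ Γ(N.left, U) := Spec.preimage (hU.fromSpec ≫ N.hom)
  have hs : Spec.map s = hU.fromSpec ≫ N.hom := Spec.map_preimage _
  have hgs : ∀ r, g.hom (s.hom r) = algebraMap R Ω r := fun r => by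
    have h : Spec.map (s ≫ g) = Spec.map (CommRingCat.ofHom (algebraMap R Ω)) := by
      rw [Spec.map_comp, hs, ← Category.assoc, hg, ha]
    exact congrArg (fun k : CommRingCat.of R ⟶ CommRingCat.of Ω => k.hom r) (Spec.map_injective h)
  have hft : s.hom.FiniteType := by
    refine (HasRingHomProperty.Spec_iff (P := @LocallyOfFiniteType)).mp ?_
    rw [hs]
    infer_instance
  letI : Algebra R Γ(N.left, U) := s.hom.toAlgebra
  haveI : Algebra.FiniteType R Γ(N.left, U) := hft
  let gA : Γ(N.left, U) →ₐ[R] Ω := { g.hom with commutes' := hgs }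
  obtain ⟨gens, hgens⟩ := (‹Algebra.FiniteType R Γ(N.left, U)›).out
  let T : Set Ω := gA '' (gens : Set Γ(N.left, U))
  have hTfin : T.Finite := gens.finite_toSet.image _
  let L₀ : IntermediateField K Ω := IntermediateField.adjoin K T
  haveI : FiniteDimensional K L₀ := by
    haveI := hTfin.to_subtype
    exact IntermediateField.finiteDimensional_adjoin fun t _ => Algebra.IsIntegral.isIntegral t
  let L : IntermediateField K Ω := IntermediateField.normalClosure K L₀ Ω
  haveI : Normal K L := inferInstance
  haveI : FiniteDimensional K L := inferInstance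
  haveI : Algebra.IsSeparable K L := Algebra.isSeparable_tower_bot_of_isSeparable K L Ω
  haveI : IsGalois K L := ⟨⟩
  have hgL : ∀ c, gA c ∈ L := fun c => by
    have hc : c ∈ Algebra.adjoin R (gens : Set Γ(N.left, U)) := by rw [hgens]; trivial
    induction hc using Algebra.adjoin_induction with
    | mem c hc => exact IntermediateField.le_normalClosure L₀ (IntermediateField.subset_adjoin K T ⟨c, hc, rfl⟩)
    | algebraMap r =>
      rw [AlgHom.commutes, IsScalarTower.algebraMap_apply R K Ω]
      exact L.algebraMap_mem _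
    | add c d _ _ hc hd => rw [map_add]; exact add_mem hc hd
    | mul c d _ _ hc hd => rw [map_mul]; exact mul_mem hc hd
  -- the integral closure in the Galois extension
  haveI : IsScalarTower R L Ω := IsScalarTower.of_algebraMap_eq fun r => rfl
  let B := integralClosure R L
  haveI : Module.Finite R B := IsIntegralClosure.finite R K L B
  haveI : IsLocalRing B := isLocalRing_of_finite_domain R B
  letI : MulSemiringAction (L ≃ₐ[K] L) B :=
  { smul := fun τ b => ⟨τ (b : L), (show IsIntegral R (b : L) from b.2).map (τ.toAlgHom.restrictScalars R)⟩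
    one_smul := fun b => Subtype.ext rfl
    mul_smul := fun τ τ' b => Subtype.ext rfl
    smul_zero := fun τ => Subtype.ext (map_zero τ)
    smul_add := fun τ a b => Subtype.ext (map_add τ (a : L) b)
    smul_one := fun τ => Subtype.ext (map_one τ)
    smul_mul := fun τ a b => Subtype.ext (map_mul τ (a : L) b) }
  let m : Ideal B := maximalIdeal B
  let E := IntermediateField.fixedField (m.inertia (L ≃ₐ[K] L))
  have hgE : ∀ c, (⟨gA c, hgL c⟩ : L) ∈ E := fun c => by
    rintro ⟨τ, hτ⟩
    have hτW : ∀ y : L, (y : Ω) ∈ W → W.valuation ((τ y : Ω) - y) < 1 := fun y hy => by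
      have hyint : IsIntegral R y := (isIntegral_algebraMap_iff (B := Ω) (algebraMap L Ω).injective).mp
        ((mem_iff_isIntegral hW _).mp hy)
      let b : B := ⟨y, hyint⟩
      have hbm : τ • b - b ∈ m := hτ b
      have hBW : ∀ d : B, ((d : L) : Ω) ∈ W := fun d =>
        (mem_iff_isIntegral hW _).mpr ((show IsIntegral R (d : L) from d.2).algebraMap)
      let ι' : B →+* W := ((algebraMap L Ω).comp (Subalgebra.val B).toRingHom).codRestrict W.toSubring hBW
      haveI : IsDedekindDomain B := IsIntegralClosure.isDedekindDomain R K L B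
      haveI hcp : ((maximalIdeal W).comap ι').IsPrime := inferInstance
      obtain ⟨ϖ, hϖ⟩ := IsDiscreteValuationRing.exists_irreducible R
      have hmem : algebraMap R B ϖ ∈ (maximalIdeal W).comap ι' := by
        refine (W.valuation_lt_one_iff _).mpr ?_
        change W.valuation (algebraMap R Ω ϖ) < 1
        rw [IsScalarTower.algebraMap_apply R K Ω]
        exact hW.2 ϖ hϖ.not_isUnit
      have hne : (maximalIdeal W).comap ι' ≠ ⊥ := fun h => by
        rw [h, Ideal.mem_bot] at hmem
        have h1 : algebraMap K L (algebraMap R K ϖ) = 0 := by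
          rw [← IsScalarTower.algebraMap_apply R K L, IsScalarTower.algebraMap_apply R B L, hmem, map_zero]
        exact hϖ.ne_zero (IsFractionRing.injective R K (((map_eq_zero _).mp h1).trans (map_zero _).symm))
      have heq : (maximalIdeal W).comap ι' = m := IsLocalRing.eq_maximalIdeal (hcp.isMaximal hne)
      rw [← heq] at hbm
      exact (W.valuation_lt_one_iff _).mp hbm
    obtain ⟨σ, hσ, hστ⟩ := exists_inertia_lift hW L τ hτW
    refine Subtype.ext ((hστ _).symm.trans ?_)
    have h1 : Spec.map (g ≫ CommRingCat.ofHom (σ : Ω →+* Ω)) = Spec.map g := by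
      rw [← cancel_mono hU.fromSpec, Spec.map_comp, Category.assoc, hg]
      exact hfix σ hσ
    exact congrArg (fun k : Γ(N.left, U) ⟶ CommRingCat.of Ω => k.hom c) (Spec.map_injective h1)
  let gE : Γ(N.left, U) →+* E := ((g.hom.codRestrict L.toSubring hgL)).codRestrict E.toSubring hgE
  -- the étale integral closure in the inertia field
  haveI : IsScalarTower R E L := IsScalarTower.of_algebraMap_eq fun r => rfl
  let B' := integralClosure R E
  letI : Algebra B' B := RingHom.toAlgebra (((algebraMap E L).comp (Subalgebra.val B').toRingHom).codRestrict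
    B.toSubring fun d => (show IsIntegral R (d : E) from d.2).algebraMap)
  letI : SMul B' B := Algebra.toSMul
  haveI : IsScalarTower R B' B := IsScalarTower.of_algebraMap_eq (R := R) (S := B') (A := B) fun r => Subtype.ext rfl
  haveI : IsScalarTower B' B L := IsScalarTower.of_algebraMap_eq fun d => rfl
  haveI : IsScalarTower B' E L := IsScalarTower.of_algebraMap_eq fun d => rfl
  obtain ⟨-, het⟩ := Groth.Agent.InertiaEtale.Field.main R K L B (fun τ b => rfl) m B'
  haveI : IsScalarTower R K E := IsScalarTower.of_algebraMap_eq fun r => Subtype.ext (IsScalarTower.algebraMap_apply R K L r)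
  haveI : Algebra.IsSeparable K E := Algebra.isSeparable_tower_bot_of_isSeparable K E L
  haveI : Module.Finite R B' := IsIntegralClosure.finite R K E B'
  haveI : IsLocalRing B' := isLocalRing_of_finite_domain R B'
  have hunit : (m.comap (algebraMap B' B)).primeCompl ≤ IsUnit.submonoid B' := fun d hd => by
    haveI : Algebra.IsIntegral R B := Algebra.IsIntegral.of_finite R B
    haveI : Algebra.IsIntegral B' B := Algebra.IsIntegral.tower_top (R := R)
    haveI : (m.comap (algebraMap B' B)).IsMaximal := Ideal.isMaximal_comap_of_isIntegral_of_isMaximal m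
    by_contra h
    exact hd ((IsLocalRing.eq_maximalIdeal (‹(m.comap (algebraMap B' B)).IsMaximal›)).symm ▸ h)
  haveI : Algebra.Etale R B' := Algebra.Etale.of_equiv
    ((IsLocalization.atUnits B' _ (S := Localization.AtPrime (m.comap (algebraMap B' B))) hunit).restrictScalars R).symm
  let Y : Over (Spec (CommRingCat.of R)) := Over.mk (Spec.map (CommRingCat.ofHom (algebraMap R B')))
  haveI : Etale Y.hom := (HasRingHomProperty.Spec_iff (P := @Etale)).mpr
    (RingHom.etale_algebraMap.mpr inferInstance)
  haveI : IsLocalization ((nonZeroDivisors R).map (algebraMap R B')) E :=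
    IsIntegralClosure.isLocalization R K E B'
  have hpo := CommRingCat.isPushout_of_isLocalization (algebraMap R B') (algebraMap K E) (Rₘ := K) (Sₘ := E)
    (RingHom.ext fun r => by
      change algebraMap K E (algebraMap R K r) = algebraMap B' E (algebraMap R B' r)
      rw [← IsScalarTower.algebraMap_apply R K E]
      rfl) (nonZeroDivisors R)
  have hpb := isPullback_SpecMap_of_isPushout _ _ _ _ hpo
  let aE : Spec (CommRingCat.of E) ⟶ N.left := Spec.map (CommRingCat.ofHom gE) ≫ hU.fromSpec
  have haE : aE ≫ N.hom = Spec.map (CommRingCat.ofHom (algebraMap K E)) ≫ Spec.map (CommRingCat.ofHom (algebraMap R K)) := by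
    rw [Category.assoc, ← hs, ← Spec.map_comp, ← Spec.map_comp]
    refine congrArg Spec.map ?_
    ext r
    change g.hom (s.hom r) = algebraMap K Ω (algebraMap R K r)
    rw [hgs, IsScalarTower.algebraMap_apply R K Ω]
  let q := Spec.map (CommRingCat.ofHom (algebraMap R K))
  let i₀ : Spec (CommRingCat.of E) ≅ pullback Y.hom q := hpb.isoPullback
  have hi₁ : i₀.hom ≫ pullback.fst Y.hom q = Spec.map (CommRingCat.ofHom (algebraMap B' E)) :=
    hpb.isoPullback_hom_fst
  have hi₂ : i₀.inv ≫ Spec.map (CommRingCat.ofHom (algebraMap K E)) = pullback.snd Y.hom q :=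
    hpb.isoPullback_inv_snd
  let u : (Over.pullback q).obj Y ⟶ (Over.pullback q).obj N := Over.homMk
    (pullback.lift (i₀.inv ≫ aE) (pullback.snd Y.hom q) (by
      rw [Category.assoc, haE, ← Category.assoc]
      exact congrArg (fun k => k ≫ q) hi₂))
    (pullback.lift_snd _ _ _)
  obtain ⟨gt, hgt⟩ := hN Y inferInstance u
  have hkey : Spec.map (CommRingCat.ofHom (algebraMap B' E)) ≫ gt.left = aE := by
    have h1 := congrArg (fun k => k.left ≫ pullback.fst N.hom q) hgt
    have h2 : ((Over.pullback q).map gt).left ≫ pullback.fst N.hom q = pullback.fst Y.hom q ≫ gt.left :=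
      pullback.lift_fst _ _ _
    have h3 : u.left ≫ pullback.fst N.hom q = i₀.inv ≫ aE := pullback.lift_fst _ _ _
    simp only at h1
    rw [h2, h3, Iso.eq_inv_comp, ← Category.assoc] at h1
    exact (congrArg (fun k => k ≫ gt.left) hi₁).symm.trans h1
  refine ⟨gt.left (closedPoint B'), ?_, ?_⟩
  · rw [← Scheme.Hom.comp_apply, Over.w gt]
    haveI : IsLocalHom (algebraMap R B') := inferInstance
    exact IsLocalRing.comap_closedPoint (algebraMap R B')
  · have h : a = Spec.map (CommRingCat.ofHom ((algebraMap L Ω).comp (algebraMap E L))) ≫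
        Spec.map (CommRingCat.ofHom (algebraMap B' E)) ≫ gt.left := by
      rw [hkey, ← Category.assoc, ← Spec.map_comp]
      exact hg.symm
    rw [h, Scheme.Hom.comp_apply, Scheme.Hom.comp_apply]
    exact (IsLocalRing.specializes_closedPoint (R := B') _).map gt.left.continuous

end Groth.Agent.TorsInertia
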